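/-
The group of order two times four to the n generated by sign changes and shifts of the functions
from a binary n-space to the field of three elements, and the lifting of orthogonal maps to its
normalizer in the general linear group.
-/
import Mathlib
import Cfsg.Prelude.Def_Transfer
import Cfsg.Agent.Lib.LargeExtra.Odd

set_option autoImplicit false

namespace CfsgLead.WeilThree

open Matrix

abbrev Vec (n : ℕ) := Fin n → ZMod 2
abbrev Fun3 (n : ℕ) := Vec n → ZMod 3
abbrev GL3 (n : ℕ) := (Module.End (ZMod 3) (Fun3 n))ˣ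

def sg (a : ZMod 2) : ZMod 3 := if a = 0 then 1 else -1

theorem sg_add : ∀ a b : ZMod 2, sg (a + b) = sg a * sg b := by decide
theorem sg_sq : ∀ a : ZMod 2, sg a * sg a = 1 := by decide
theorem sg_inj : ∀ a b : ZMod 2, sg a = sg b → a = b := by decide
theorem sg_ne : ∀ a : ZMod 2, sg a ≠ 0 := by decide
theorem sg_zero : sg 0 = 1 := by decide

variable {n : ℕ}

/-- The quadratic form of plus type. -/
def qform (u : Vec n × Vec n) : ZMod 2 := u.2 ⬝ᵥ u.1

/-- Its polar. -/
def bform (u u' : Vec n × Vec n) : ZMod 2 := u'.2 ⬝ᵥ u.1 + u.2 ⬝ᵥ u'.1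

theorem qform_add (u u' : Vec n × Vec n) : qform (u + u') = qform u + qform u' + bform u u' := by
  simp only [qform, bform, Prod.fst_add, Prod.snd_add, dotProduct_add, add_dotProduct]
  ring

def shiftEnd (u : Vec n × Vec n) : Module.End (ZMod 3) (Fun3 n) where
  toFun f := fun x => sg (u.2 ⬝ᵥ x) * f (x + u.1)
  map_add' f f' := funext fun x => mul_add _ _ _
  map_smul' c f := funext fun x => mul_left_comm _ _ _

theorem vec_add_self {ι : Type*} (a : ι → ZMod 2) : a + a = 0 := funext fun i => CharTwo.add_self_eq_zero (a i)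

theorem pair_add_self (u : Vec n × Vec n) : u + u = 0 := Prod.ext (vec_add_self u.1) (vec_add_self u.2)

theorem shiftEnd_mul (u u' : Vec n × Vec n) :
    shiftEnd u * shiftEnd u' = sg (u'.2 ⬝ᵥ u.1) • shiftEnd (u + u') := by
  refine LinearMap.ext fun f => funext fun x => ?_
  show sg (u.2 ⬝ᵥ x) * (sg (u'.2 ⬝ᵥ (x + u.1)) * f (x + u.1 + u'.1)) =
    sg (u'.2 ⬝ᵥ u.1) * (sg ((u.2 + u'.2) ⬝ᵥ x) * f (x + (u.1 + u'.1)))
  rw [dotProduct_add, add_dotProduct, sg_add, sg_add, add_assoc]
  ring

theorem shiftEnd_zero : shiftEnd (0 : Vec n × Vec n) = 1 := by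
  refine LinearMap.ext fun f => funext fun x => ?_
  show sg ((0 : Vec n) ⬝ᵥ x) * f (x + 0) = f x
  rw [zero_dotProduct, sg_zero, one_mul, add_zero]

theorem shiftEnd_sq (c : ZMod 2) (u : Vec n × Vec n) :
    (sg c • shiftEnd u) * (sg (c + qform u) • shiftEnd u) = 1 ∧
      (sg (c + qform u) • shiftEnd u) * (sg c • shiftEnd u) = 1 := by
  constructor <;>
    rw [smul_mul_assoc, mul_smul_comm, shiftEnd_mul, pair_add_self, shiftEnd_zero, smul_smul, smul_smul,
      ← sg_add, ← sg_add] <;>
    convert one_smul (ZMod 3) (1 : Module.End (ZMod 3) (Fun3 n)) <;>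
    simp only [qform] <;>
    (rw [show (1 : ZMod 3) = sg 0 from sg_zero.symm]; congr 1) <;>
    linear_combination CharTwo.add_self_eq_zero c + CharTwo.add_self_eq_zero (u.2 ⬝ᵥ u.1)

/-- A sign times a sign change times a shift. -/
def el (c : ZMod 2) (u : Vec n × Vec n) : GL3 n :=
  ⟨sg c • shiftEnd u, sg (c + qform u) • shiftEnd u, (shiftEnd_sq c u).1, (shiftEnd_sq c u).2⟩

theorem el_apply (c : ZMod 2) (u : Vec n × Vec n) (f : Fun3 n) (x : Vec n) :
    (el c u : Module.End (ZMod 3) (Fun3 n)) f x = sg c * (sg (u.2 ⬝ᵥ x) * f (x + u.1)) := rfl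

theorem el_mul (c c' : ZMod 2) (u u' : Vec n × Vec n) :
    el c u * el c' u' = el (c + c' + u'.2 ⬝ᵥ u.1) (u + u') := by
  apply Units.ext
  show (sg c • shiftEnd u) * (sg c' • shiftEnd u') = sg _ • shiftEnd (u + u')
  rw [smul_mul_assoc, mul_smul_comm, shiftEnd_mul, smul_smul, smul_smul, ← sg_add, ← sg_add]

theorem el_zero : el 0 (0 : Vec n × Vec n) = 1 := by
  apply Units.ext
  show sg 0 • shiftEnd (0 : Vec n × Vec n) = 1
  rw [shiftEnd_zero, sg_zero, one_smul]

theorem el_inv (c : ZMod 2) (u : Vec n × Vec n) : (el c u)⁻¹ = el (c + qform u) u :=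
  Units.ext rfl

theorem el_central (c : ZMod 2) (g : GL3 n) : el c 0 * g = g * el c 0 := by
  apply Units.ext
  show (sg c • shiftEnd (0 : Vec n × Vec n)) * (g : Module.End (ZMod 3) (Fun3 n)) =
    (g : Module.End (ZMod 3) (Fun3 n)) * (sg c • shiftEnd (0 : Vec n × Vec n))
  rw [shiftEnd_zero, smul_mul_assoc, one_mul, mul_smul_comm, mul_one]

theorem el_split (c : ZMod 2) (u : Vec n × Vec n) : el c u = el c 0 * el 0 u := by
  rw [el_mul, zero_add]
  simp

theorem eq_zero_of_dot (b : Vec n) (h : ∀ x, b ⬝ᵥ x = 0) : b = 0 := by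
  funext i
  have := h (Pi.single i 1)
  rwa [dotProduct_single, mul_one] at this

theorem el_inj {c c' : ZMod 2} {u u' : Vec n × Vec n} (h : el c u = el c' u') : c = c' ∧ u = u' := by
  have h1 := fun x => congrFun (LinearMap.congr_fun (congrArg Units.val h) (fun _ => 1)) x
  simp only [el_apply, mul_one, ← sg_add] at h1
  have hc : c = c' := by
    have := sg_inj _ _ (h1 0)
    simpa using this
  have hb : u.2 = u'.2 := by
    have hz : u.2 - u'.2 = 0 := eq_zero_of_dot _ fun x => by
      have := sg_inj _ _ (h1 x)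
      rw [hc, add_right_inj] at this
      rw [sub_dotProduct, this, sub_self]
    exact sub_eq_zero.mp hz
  refine ⟨hc, Prod.ext ?_ hb⟩
  by_contra hne
  have h2 := congrFun (LinearMap.congr_fun (congrArg Units.val h) (Pi.single (0 : Vec n) 1)) u.1
  simp only [el_apply, vec_add_self] at h2
  rw [Pi.single_eq_same, mul_one, Pi.single_eq_of_ne, mul_zero, mul_zero] at h2
  · exact mul_ne_zero (sg_ne _) (sg_ne _) h2
  · intro e
    exact hne (by rw [← add_zero u'.1, ← vec_add_self u.1, ← add_assoc, add_comm u'.1, e, zero_add])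

theorem el_comm_iff (c c' : ZMod 2) (u u' : Vec n × Vec n) :
    el c u * el c' u' = el c' u' * el c u ↔ bform u u' = 0 := by
  rw [el_mul, el_mul, bform, CharTwo.add_eq_zero, add_comm u' u, add_comm c' c]
  constructor
  · intro h
    exact add_left_cancel (el_inj h).1
  · intro h
    rw [h]

theorem el_swap (c c' : ZMod 2) (u u' : Vec n × Vec n) :
    el c u * el c' u' = el (bform u u') 0 * (el c' u' * el c u) := by
  rw [el_mul, el_mul, el_mul, zero_add, add_comm u' u, bform]
  congr 1
  simp only [Prod.fst_zero, dotProduct_zero]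
  linear_combination CharTwo.add_self_eq_zero (u.2 ⬝ᵥ u'.1) * (-1 : ZMod 2)

theorem bform_nondeg (u : Vec n × Vec n) (h : ∀ u', bform u u' = 0) : u = 0 := by
  refine Prod.ext (eq_zero_of_dot _ fun x => ?_) (eq_zero_of_dot _ fun x => ?_)
  · have := h (0, x)
    simpa [bform, dotProduct_comm] using this
  · have := h (x, 0)
    simpa [bform] using this

/-- The elements of the group sent to signs times their images under a given map. -/
def Maps (σ : Vec n × Vec n → Vec n × Vec n) (g : GL3 n) : Prop :=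
  ∀ u, ∃ c, g * el 0 u * g⁻¹ = el c (σ u)

theorem Maps.el' {σ : Vec n × Vec n → Vec n × Vec n} {g : GL3 n} (h : Maps σ g) (c : ZMod 2)
    (u : Vec n × Vec n) : ∃ d, g * el c u * g⁻¹ = el d (σ u) := by
  obtain ⟨d, hd⟩ := h u
  refine ⟨c + d, ?_⟩
  rw [el_split c u, ← mul_assoc g, ← el_central c g, mul_assoc (el c 0) g, mul_assoc (el c 0), hd,
    el_mul, zero_add]
  simp

theorem Maps.mul {σ τ : Vec n × Vec n → Vec n × Vec n} {g h : GL3 n} (hg : Maps σ g) (hh : Maps τ h) :
    Maps (σ ∘ τ) (g * h) := by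
  intro u
  obtain ⟨c, hc⟩ := hh u
  obtain ⟨d, hd⟩ := hg.el' c (τ u)
  refine ⟨d, ?_⟩
  rw [_root_.mul_inv_rev, show g * h * el 0 u * (h⁻¹ * g⁻¹) = g * (h * el 0 u * h⁻¹) * g⁻¹ by group, hc, hd]
  rfl

/-- A commutant of all sign changes and shifts is a sign. -/
theorem scalar_of_commute (h : GL3 n) (hc : ∀ u, h * el 0 u = el 0 u * h) : ∃ c, h = el c 0 := by
  set H := (h : Module.End (ZMod 3) (Fun3 n)) with hH
  have hcomm : ∀ (u : Vec n × Vec n) (f : Fun3 n), H (shiftEnd u f) = shiftEnd u (H f) := fun u f => by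
    have := LinearMap.congr_fun (congrArg Units.val (hc u)) f
    simpa [el, sg_zero] using this
  set δ : Fun3 n := Pi.single (0 : Vec n) 1 with hδ
  have hzero : ∀ x, x ≠ 0 → H δ x = 0 := by
    intro x hx
    obtain ⟨i, hi⟩ : ∃ i, x i ≠ 0 := by
      by_contra hall
      push Not at hall
      exact hx (funext hall)
    have e1 : shiftEnd ((0 : Vec n), Pi.single i 1) δ = δ := funext fun y => by
      show sg (Pi.single i 1 ⬝ᵥ y) * δ (y + 0) = δ y
      rw [add_zero, hδ]
      by_cases hy : y = 0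
      · rw [hy, dotProduct_zero, sg_zero, one_mul]
      · rw [Pi.single_eq_of_ne hy, mul_zero]
    have e2 := congrFun (hcomm ((0 : Vec n), Pi.single i 1) δ) x
    rw [e1] at e2
    change H δ x = sg (Pi.single i 1 ⬝ᵥ x) * H δ (x + 0) at e2
    rw [single_dotProduct, one_mul, add_zero] at e2
    generalize H δ x = a, x i = b at e2 hi
    revert e2 hi
    revert a b
    decide
  have hscal : H = (H δ 0) • (1 : Module.End (ZMod 3) (Fun3 n)) := by
    refine LinearMap.pi_ext fun a t => ?_
    have e : Pi.single (M := fun _ : Vec n => ZMod 3) a t = t • shiftEnd (a, (0 : Vec n)) δ := funext fun y => by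
      show Pi.single (M := fun _ : Vec n => ZMod 3) a t y = t * (sg ((0 : Vec n) ⬝ᵥ y) * δ (y + a))
      rw [zero_dotProduct, sg_zero, one_mul, hδ]
      by_cases hy : y = a
      · rw [hy, vec_add_self, Pi.single_eq_same, Pi.single_eq_same, mul_one]
      · rw [Pi.single_eq_of_ne hy, Pi.single_eq_of_ne, mul_zero]
        intro e0
        exact hy (by rw [← add_zero y, ← vec_add_self a, ← add_assoc, e0, zero_add])
    have hd : H δ = (H δ 0) • δ := funext fun y => by
      by_cases hy : y = 0
      · rw [hy, Pi.smul_apply, hδ, Pi.single_eq_same, smul_eq_mul, mul_one]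
      · rw [hzero y hy, Pi.smul_apply, hδ, Pi.single_eq_of_ne hy, smul_zero]
    rw [e, map_smul, hcomm, hd, map_smul, map_smul, LinearMap.smul_apply, Module.End.one_apply,
      smul_smul, smul_smul, mul_comm, ← hd]
    simp [hδ, Pi.single_eq_same, mul_comm]
  have hne : H δ 0 ≠ 0 := by
    intro e
    rw [e, zero_smul] at hscal
    have hu : IsUnit H := hH ▸ h.isUnit
    rw [hscal, isUnit_zero_iff] at hu
    have := congrFun (LinearMap.congr_fun hu δ) 0
    simp [hδ] at this
  obtain ⟨c, hc'⟩ : ∃ c, sg c = H δ 0 := by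
    generalize H δ 0 = a at hne
    revert hne
    revert a
    decide
  refine ⟨c, Units.ext ?_⟩
  show H = sg c • shiftEnd 0
  rw [shiftEnd_zero, hc']
  exact hscal

theorem mem_el_of_maps_id (g : GL3 n) (hg : Maps id g) : ∃ c u, g = el c u := by
  choose c hc using hg
  simp only [id] at hc
  have hadd : ∀ u u', c (u + u') = c u + c u' := by
    intro u u'
    have e : g * (el 0 u * el 0 u') * g⁻¹ = el (c u + c u' + u'.2 ⬝ᵥ u.1) (u + u') := by
      rw [show g * (el 0 u * el 0 u') * g⁻¹ = (g * el 0 u * g⁻¹) * (g * el 0 u' * g⁻¹) by group, hc, hc, el_mul]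
    rw [el_mul, zero_add, zero_add, el_split, ← mul_assoc g, ← el_central _ g, mul_assoc (el _ 0) g,
      mul_assoc (el _ 0), hc, el_mul] at e
    have := (el_inj e).1
    simp only [Prod.fst_zero, dotProduct_zero, add_zero] at this
    linear_combination this + CharTwo.add_self_eq_zero (u'.2 ⬝ᵥ u.1) * (0 : ZMod 2)
  let cl : (Vec n × Vec n) →ₗ[ZMod 2] ZMod 2 := (AddMonoidHom.mk' c hadd).toZModLinearMap 2
  obtain ⟨u₀, hu₀⟩ : ∃ u₀, ∀ u, bform u₀ u = c u := by
    refine ⟨(fun i => c (0, Pi.single i 1), fun i => c (Pi.single i 1, 0)), fun u => ?_⟩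
    let bl : (Vec n × Vec n) →ₗ[ZMod 2] ZMod 2 :=
      (AddMonoidHom.mk' (bform ((fun i => c (0, Pi.single i 1)), fun i => c (Pi.single i 1, 0))) (fun a b => by
        simp only [bform, Prod.fst_add, Prod.snd_add, dotProduct_add, add_dotProduct]
        ring)).toZModLinearMap 2
    show bl u = cl u
    refine LinearMap.congr_fun ?_ u
    refine LinearMap.prod_ext (LinearMap.pi_ext' fun i => LinearMap.ext_ring ?_)
      (LinearMap.pi_ext' fun i => LinearMap.ext_ring ?_)
    · show bform (_, _) (Pi.single i 1, 0) = c (Pi.single i 1, 0)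
      simp [bform, dotProduct_single]
    · show bform (_, _) (0, Pi.single i 1) = c (0, Pi.single i 1)
      simp [bform, single_dotProduct]
  obtain ⟨d, hd⟩ := scalar_of_commute ((el 0 u₀)⁻¹ * g) fun u => by
    have e1 : g * el 0 u = el (c u) u * g := by rw [← hc u, inv_mul_cancel_right]
    rw [mul_assoc, e1, ← mul_assoc, ← mul_assoc]
    congr 1
    rw [eq_comm, eq_inv_mul_iff_mul_eq, ← mul_assoc, el_swap, ← mul_assoc, hu₀, el_split (c u) u]
    group
  exact ⟨d + 0, u₀ + 0 + 0, by rw [inv_mul_eq_iff_eq_mul] at hd; rw [hd, el_mul]; simp⟩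

/-- Joint eigenvectors for commuting signed shifts. -/
theorem exists_eigen (M : Fin n → GL3 n) (hsq : ∀ i, M i * M i = 1) (hcomm : ∀ i j, M i * M j = M j * M i) :
    ∃ v : Fun3 n, v ≠ 0 ∧ ∀ i, ∃ c, (M i : Module.End (ZMod 3) (Fun3 n)) v = sg c • v := by
  classical
  suffices ∀ S : Finset (Fin n), ∃ v : Fun3 n, v ≠ 0 ∧
      ∀ i ∈ S, ∃ c, (M i : Module.End (ZMod 3) (Fun3 n)) v = sg c • v by
    obtain ⟨v, hv, h⟩ := this Finset.univ
    exact ⟨v, hv, fun i => h i (Finset.mem_univ i)⟩
  intro S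
  induction S using Finset.induction with
  | empty => exact ⟨fun _ => 1, fun e => by simpa using congrFun e 0, by simp⟩
  | insert j S _ ih =>
    obtain ⟨v, hv, h⟩ := ih
    have hjj : ∀ f, (M j : Module.End (ZMod 3) (Fun3 n)) ((M j : Module.End (ZMod 3) (Fun3 n)) f) = f := fun f => by
      simpa using LinearMap.congr_fun (congrArg Units.val (hsq j)) f
    by_cases h0 : v + (M j : Module.End (ZMod 3) (Fun3 n)) v = 0
    · refine ⟨v, hv, fun i hi => ?_⟩
      rcases Finset.mem_insert.mp hi with rfl | hi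
      · exact ⟨1, by rw [show sg 1 = -1 by decide, neg_one_smul]; exact eq_neg_of_add_eq_zero_right h0⟩
      · exact h i hi
    · refine ⟨_, h0, fun i hi => ?_⟩
      rcases Finset.mem_insert.mp hi with rfl | hi
      · exact ⟨0, by rw [map_add, hjj, sg_zero, one_smul, add_comm]⟩
      · obtain ⟨c, hc⟩ := h i hi
        refine ⟨c, ?_⟩
        have := LinearMap.congr_fun (congrArg Units.val (hcomm i j)) v
        simp only [Units.val_mul, Module.End.mul_apply] at this
        rw [map_add, this, hc, map_smul, smul_add]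

theorem exists_maps (σ : Vec n × Vec n →ₗ[ZMod 2] Vec n × Vec n) (hσ : ∀ u, qform (σ u) = qform u) :
    ∃ g : GL3 n, Maps σ g := by
  classical
  have hb : ∀ u u', bform (σ u) (σ u') = bform u u' := fun u u' => by
    have := hσ (u + u')
    rw [map_add, qform_add, qform_add, hσ, hσ] at this
    exact add_left_cancel this
  let X : Fin n → Vec n × Vec n := fun i => (Pi.single i 1, 0)
  let Y : Fin n → Vec n × Vec n := fun i => (0, Pi.single i 1)
  have hMsq : ∀ u, qform u = 0 → el 0 (σ u) * el 0 (σ u) = 1 := fun u hu => by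
    rw [el_mul, pair_add_self, ← qform, hσ, hu, add_zero, add_zero, el_zero]
  obtain ⟨v, hv, hev⟩ := exists_eigen (fun i => el 0 (σ (Y i)))
    (fun i => hMsq _ (by simp [qform, Y])) fun i j => (el_comm_iff _ _ _ _).mpr (by rw [hb]; simp [bform, Y])
  have hvb : ∀ b : Vec n, ∃ c, (el 0 (σ ((0 : Vec n), b)) : Module.End (ZMod 3) (Fun3 n)) v = sg c • v := by
    intro b
    rw [← Finset.univ_sum_single b]
    refine Finset.sum_induction _ (fun b : Vec n => ∃ c, (el 0 (σ ((0 : Vec n), b)) : Module.End (ZMod 3) (Fun3 n)) v = sg c • v)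
      ?_ ⟨0, by rw [show ((0 : Vec n), (0 : Vec n)) = 0 from rfl, map_zero, el_zero, sg_zero, one_smul]; rfl⟩ ?_
    · rintro a b ⟨c, hc⟩ ⟨d, hd⟩
      set w := el 0 (σ ((0 : Vec n), a)) * el 0 (σ ((0 : Vec n), b)) with hw
      have h1 : (w : Module.End (ZMod 3) (Fun3 n)) v = sg (d + c) • v := by
        rw [hw, Units.val_mul, Module.End.mul_apply, hd, map_smul, hc, smul_smul, ← sg_add]
      set k := 0 + 0 + (σ ((0 : Vec n), b)).2 ⬝ᵥ (σ ((0 : Vec n), a)).1
      have h2 : el 0 (σ ((0 : Vec n), a + b)) = el k 0 * w := by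
        rw [hw, el_mul, el_mul, zero_add, ← map_add, Prod.mk_add_mk, zero_add (0 : Vec n)]
        congr 1
        · simp [k, CharTwo.add_self_eq_zero]
        · rw [zero_add]
      refine ⟨k + (d + c), ?_⟩
      rw [h2, Units.val_mul, Module.End.mul_apply, h1, sg_add k, ← smul_smul]
      show sg k • shiftEnd 0 (sg (d + c) • v) = _
      rw [shiftEnd_zero]
      rfl
    · intro i _
      rcases (show ∀ a : ZMod 2, a = 0 ∨ a = 1 by decide) (b i) with e | e <;> rw [e]
      · exact ⟨0, by rw [Pi.single_zero, show ((0 : Vec n), (0 : Vec n)) = 0 from rfl, map_zero, el_zero, sg_zero, one_smul]; rfl⟩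
      · exact hev i
  let φ : Fin n → Multiplicative (ZMod 2) →* GL3 n := fun i =>
    { toFun := fun a => if Multiplicative.toAdd a = 0 then 1 else el 0 (σ (X i))
      map_one' := by simp
      map_mul' := fun a b => by
        have key := hMsq (X i) (by simp [qform, X])
        rcases (show ∀ a : ZMod 2, a = 0 ∨ a = 1 by decide) (Multiplicative.toAdd a) with e | e <;>
          rcases (show ∀ a : ZMod 2, a = 0 ∨ a = 1 by decide) (Multiplicative.toAdd b) with e' | e' <;>
          simp [e, e', key, CharTwo.add_self_eq_zero] }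
  have hφ : ∀ i a, φ i a = 1 ∨ φ i a = el 0 (σ (X i)) := fun i a => ite_eq_or_eq _ _ _
  have hcommX : ∀ i j, el 0 (σ (X i)) * el 0 (σ (X j)) = el 0 (σ (X j)) * el 0 (σ (X i)) := fun i j =>
    (el_comm_iff _ _ _ _).mpr (by rw [hb]; simp [bform, X])
  let Φ := MonoidHom.noncommPiCoprod φ fun i j _ a b => by
    rcases hφ i a with e | e <;> rcases hφ j b with e' | e' <;> rw [e, e']
    exacts [Commute.one_left _, Commute.one_left _, Commute.one_right _, hcommX i j]
  let P : Vec n → GL3 n := fun x => Φ fun i => Multiplicative.ofAdd (x i)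
  have hPadd : ∀ x y, P (x + y) = P x * P y := fun x y => by
    show Φ _ = Φ _ * Φ _
    rw [← map_mul]
    rfl
  have hPel : ∀ x, ∃ c, P x = el c (σ (x, 0)) := by
    intro x
    rw [← Finset.univ_sum_single x]
    refine Finset.sum_induction _ (fun x => ∃ c, P x = el c (σ (x, 0))) ?_ ?_ ?_
    · rintro a b ⟨c, hc⟩ ⟨d, hd⟩
      exact ⟨_, by rw [hPadd, hc, hd, el_mul, ← map_add, Prod.mk_add_mk, zero_add]⟩
    · exact ⟨0, by rw [show ((0 : Vec n), (0 : Vec n)) = 0 from rfl, map_zero, el_zero]; exact map_one Φ⟩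
    · intro i _
      have e0 : (fun j => Multiplicative.ofAdd (Pi.single (M := fun _ => ZMod 2) i (x i) j)) =
          Pi.mulSingle i (Multiplicative.ofAdd (x i)) := funext fun j => by
        by_cases hj : j = i
        · subst hj; simp
        · simp [Pi.single_eq_of_ne hj, Pi.mulSingle_eq_of_ne hj]
      have e1 : P (Pi.single i (x i)) = φ i (Multiplicative.ofAdd (x i)) := by
        show Φ _ = _
        rw [e0]
        exact MonoidHom.noncommPiCoprod_mulSingle _ _ _
      rcases (show ∀ a : ZMod 2, a = 0 ∨ a = 1 by decide) (x i) with e | e <;> rw [e] at e1 ⊢ <;> refine ⟨0, e1.trans ?_⟩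
      · rw [ofAdd_zero, Pi.single_zero, show ((0 : Vec n), (0 : Vec n)) = 0 from rfl, map_zero σ, el_zero]
        exact map_one _
      · show (if (1 : ZMod 2) = 0 then 1 else el 0 (σ (X i))) = _
        exact if_neg one_ne_zero
  let gl : Module.End (ZMod 3) (Fun3 n) :=
    Fintype.linearCombination (ZMod 3) fun x => (P x : Module.End (ZMod 3) (Fun3 n)) v
  have hgl : ∀ x t, gl (Pi.single x t) = t • (P x : Module.End (ZMod 3) (Fun3 n)) v := fun x t => by
    simp [gl, Fintype.linearCombination_apply_single]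
  have hsing : ∀ (a b x : Vec n) (t : ZMod 3),
      shiftEnd (a, b) (Pi.single x t) = sg (b ⬝ᵥ (x + a)) • Pi.single (x + a) t := fun a b x t => funext fun y => by
    show sg (b ⬝ᵥ y) * Pi.single (M := fun _ : Vec n => ZMod 3) x t (y + a) =
      sg (b ⬝ᵥ (x + a)) * Pi.single (M := fun _ : Vec n => ZMod 3) (x + a) t y
    by_cases hy : y = x + a
    · rw [hy, add_assoc, vec_add_self, add_zero, Pi.single_eq_same, Pi.single_eq_same]
    · rw [Pi.single_eq_of_ne hy, Pi.single_eq_of_ne, mul_zero, mul_zero]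
      intro e
      exact hy (by rw [← e, add_assoc, vec_add_self, add_zero])
  have hgX : ∀ a : Vec n, gl * shiftEnd (a, 0) = (P a : Module.End (ZMod 3) (Fun3 n)) * gl := fun a => by
    refine LinearMap.pi_ext fun x t => ?_
    rw [Module.End.mul_apply, Module.End.mul_apply, hsing, zero_dotProduct, sg_zero, one_smul, hgl, hgl,
      map_smul, add_comm x a, hPadd, Units.val_mul, Module.End.mul_apply]
  have hgY : ∀ b : Vec n, ∃ c, gl * shiftEnd (0, b) = sg c • ((el 0 (σ (0, b)) : Module.End (ZMod 3) (Fun3 n)) * gl) := by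
    intro b
    obtain ⟨c, hc⟩ := hvb b
    refine ⟨c, LinearMap.pi_ext fun x t => ?_⟩
    obtain ⟨d, hd⟩ := hPel x
    have hbx : bform (σ (0, b)) (σ (x, 0)) = b ⬝ᵥ x := by rw [hb]; simp [bform]
    rw [LinearMap.smul_apply, Module.End.mul_apply, Module.End.mul_apply, hsing, map_smul, add_zero, hgl,
      map_smul, hd, ← Module.End.mul_apply, ← Units.val_mul, el_swap, hbx, Units.val_mul, Units.val_mul,
      Module.End.mul_apply, Module.End.mul_apply, hc, map_smul]
    show _ = sg c • t • (sg (b ⬝ᵥ x) • shiftEnd 0 _)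
    rw [shiftEnd_zero, Module.End.one_apply, smul_smul, smul_smul, smul_smul, smul_smul]
    congr 1
    linear_combination (- t * sg (b ⬝ᵥ x)) * sg_sq c
  have hinj : Function.Injective gl := by
    rw [← LinearMap.ker_eq_bot, Submodule.eq_bot_iff]
    intro f hf
    rw [LinearMap.mem_ker] at hf
    by_contra hne
    obtain ⟨x₀, hx₀⟩ : ∃ x, f x ≠ 0 := by
      by_contra hall
      push Not at hall
      exact hne (funext hall)
    have key : ∀ S : Finset (Fin n), gl (fun x => if ∀ i ∈ S, x i = x₀ i then f x else 0) = 0 := by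
      intro S
      induction S using Finset.induction with
      | empty => simpa using hf
      | insert j S _ ih =>
        set fS : Fun3 n := fun x => if ∀ i ∈ S, x i = x₀ i then f x else 0 with hfS
        have e : (fun x => if ∀ i ∈ insert j S, x i = x₀ i then f x else 0) =
            -(fS + sg (x₀ j) • shiftEnd ((0 : Vec n), Pi.single j 1) fS) := funext fun x => by
          show _ = -(fS x + sg (x₀ j) * (sg (Pi.single j 1 ⬝ᵥ x) * fS (x + 0)))
          rw [add_zero, single_dotProduct, one_mul]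
          simp only [hfS, Finset.forall_mem_insert]
          by_cases hS : ∀ i ∈ S, x i = x₀ i
          · rw [if_pos hS]
            rw [if_congr (and_iff_left hS) rfl rfl]
            generalize f x = a, x j = b, x₀ j = b₀
            revert a b b₀
            decide
          · simp [hS]
        obtain ⟨c, hc⟩ := hgY (Pi.single j 1)
        rw [e, map_neg, map_add, map_smul, ← Module.End.mul_apply, hc, LinearMap.smul_apply,
          Module.End.mul_apply, ih]
        simp
    have h1 := key Finset.univ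
    have e : (fun x => if ∀ i ∈ Finset.univ, x i = x₀ i then f x else 0) = Pi.single x₀ (f x₀) := funext fun x => by
      by_cases hx : x = x₀
      · subst hx; simp
      · rw [Pi.single_eq_of_ne hx, if_neg fun h => hx (funext fun i => h i (Finset.mem_univ i))]
    rw [e, hgl, smul_eq_zero] at h1
    rcases h1 with h1 | h1
    · exact hx₀ h1
    · exact hv (by
        have := congrArg ((↑(P x₀)⁻¹ : Module.End (ZMod 3) (Fun3 n))) h1
        rwa [← Module.End.mul_apply, Units.inv_mul, Module.End.one_apply, map_zero] at this)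
  obtain ⟨g, hg⟩ : IsUnit gl := (Module.End.isUnit_iff gl).mpr ⟨hinj, Finite.injective_iff_surjective.mp hinj⟩
  refine ⟨g, fun u => ?_⟩
  obtain ⟨c, hc⟩ := hgY u.2
  obtain ⟨d, hd⟩ := hPel u.1
  have h1 : g * el 0 (u.1, 0) = el d (σ (u.1, 0)) * g := by
    apply Units.ext
    rw [Units.val_mul, Units.val_mul, hg, ← hd, ← hgX]
    show gl * (sg 0 • shiftEnd (u.1, 0)) = _
    rw [sg_zero, one_smul]
  have h2 : g * el 0 (0, u.2) = el c (σ (0, u.2)) * g := by
    apply Units.ext
    rw [Units.val_mul, Units.val_mul, hg]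
    show gl * (sg 0 • shiftEnd (0, u.2)) = (sg c • shiftEnd (σ (0, u.2))) * gl
    rw [sg_zero, one_smul, hc, smul_mul_assoc]
    show sg c • ((sg 0 • shiftEnd _) * gl) = _
    rw [sg_zero, one_smul]
  refine ⟨u.2 ⬝ᵥ u.1 + (d + c + (σ (0, u.2)).2 ⬝ᵥ (σ (u.1, 0)).1), ?_⟩
  have e : el 0 u = el (u.2 ⬝ᵥ u.1) 0 * (el 0 (u.1, 0) * el 0 (0, u.2)) := by
    rw [el_mul, el_mul]
    congr 1
    · simp [CharTwo.add_self_eq_zero]
    · simp
  rw [e, ← mul_assoc g, ← el_central _ g, mul_assoc (el _ 0) g, ← mul_assoc g, h1, mul_assoc _ g, h2,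
    ← mul_assoc _ _ g, mul_assoc (el _ 0), mul_inv_cancel_right, el_mul, el_mul, ← map_add]
  congr 1
  · simp
  · simp

end CfsgLead.WeilThree
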