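/-
An extraspecial normal subgroup with prescribed orthogonal action of the quotient.
-/
import Cfsg.Agent.Lib.WeilThree.Basic

set_option autoImplicit false

namespace CfsgLead.WeilThree

open Matrix

variable {U : Type*} [AddCommGroup U] [Module (ZMod 2) U] [Module.Finite (ZMod 2) U]

theorem exists_hyperbolic (n : ℕ) (hn : Module.finrank (ZMod 2) U = 2 * n) (q : QuadraticForm (ZMod 2) U)
    (hnd : (QuadraticMap.polarBilin q).Nondegenerate)
    (hplus : ∃ W : Submodule (ZMod 2) U, Module.finrank (ZMod 2) ↥W = n ∧ ∀ w ∈ W, q w = 0) :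
    ∃ ψ : U ≃ₗ[ZMod 2] (Vec n × Vec n), ∀ u, q u = qform (ψ u) := by
  classical
  obtain ⟨W, hW, hsing⟩ := hplus
  set B := QuadraticMap.polarBilin q with hB
  have hBadd : ∀ a b, q (a + b) = q a + q b + B a b := fun a b => QuadraticMap.map_add q a b
  have hWW : ∀ a ∈ W, ∀ b ∈ W, B a b = 0 := fun a ha b hb => by
    have := hBadd a b
    rw [hsing a ha, hsing b hb, hsing _ (W.add_mem ha hb), zero_add, zero_add] at this
    exact this.symm
  let R : U →ₗ[ZMod 2] Module.Dual (ZMod 2) ↥W := LinearMap.compl₂ B W.subtype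
  have hsurj : LinearMap.range R = ⊤ := by
    refine Submodule.eq_top_of_finrank_eq (le_antisymm (Submodule.finrank_le _) ?_)
    rw [Subspace.dual_finrank_eq, hW]
    have h1 := LinearMap.finrank_range_add_finrank_ker R
    rw [hn] at h1
    suffices h : Module.finrank (ZMod 2) (LinearMap.ker R) ≤ n by omega
    -- the kernel is orthogonal to W
    have horth : LinearMap.ker R ≤ LinearMap.BilinForm.orthogonal B W := by
      intro u hu
      rw [LinearMap.BilinForm.mem_orthogonal_iff]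
      intro w hw
      show B w u = 0
      have := LinearMap.congr_fun (LinearMap.mem_ker.mp hu) ⟨w, hw⟩
      rw [show B w u = B u w from QuadraticMap.polar_comm q w u]
      exact this
    refine le_trans (Submodule.finrank_mono horth) ?_
    rw [LinearMap.BilinForm.finrank_orthogonal hnd, hn, hW]
    omega
  let bW := Module.finBasisOfFinrankEq (ZMod 2) ↥W hW
  have hex : ∀ j, ∃ u, R u = bW.coord j := fun j => LinearMap.range_eq_top.mp hsurj _
  choose u hu using hex
  have hwu : ∀ i j, B (bW i : U) (u j) = if i = j then 1 else 0 := fun i j => by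
    rw [show B (bW i : U) (u j) = B (u j) (bW i) from QuadraticMap.polar_comm q _ _]
    have := LinearMap.congr_fun (hu j) (bW i)
    refine this.trans ?_
    rw [Module.Basis.coord_apply, Module.Basis.repr_self, Finsupp.single_apply]
  let co : Fin n → Fin n → ZMod 2 := fun j k => if j < k then B (u j) (u k) else if j = k then q (u j) else 0
  let cor : Fin n → U := fun j => ∑ k, co j k • (bW k : U)
  have hcW : ∀ j, cor j ∈ W := fun j => Submodule.sum_mem _ fun k _ => W.smul_mem _ (bW k).2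
  let v : Fin n → U := fun j => u j + cor j
  have hcu : ∀ j i, B (cor j) (u i) = co j i := fun j i => by
    simp [cor, map_sum, LinearMap.sum_apply, hwu]
  have hsym : ∀ a b, B a b = B b a := QuadraticMap.polar_comm q
  have hv : ∀ j, q (v j) = 0 := fun j => by
    rw [hBadd, hsing _ (hcW j), hsym, hcu]
    show q (u j) + 0 + co j j = 0
    simp [co, CharTwo.add_self_eq_zero]
  have hwv : ∀ i j, B (bW i : U) (v j) = if i = j then 1 else 0 := fun i j => by
    rw [map_add, hwu, hWW _ (bW i).2 _ (hcW j), add_zero]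
  have hvv : ∀ i j, i ≠ j → B (v i) (v j) = 0 := by
    suffices ∀ i j, i < j → B (v i) (v j) = 0 by
      intro i j hij
      rcases lt_or_gt_of_ne hij with h | h
      · exact this i j h
      · rw [hsym]; exact this j i h
    intro i j hij
    simp only [v, map_add, LinearMap.add_apply]
    rw [hsym (u i) (cor j), hcu, hcu, hWW _ (hcW i) _ (hcW j)]
    simp [co, hij, not_lt.mpr hij.le, hij.ne', CharTwo.add_self_eq_zero]
  let Φ : (Vec n × Vec n) →ₗ[ZMod 2] U :=
    LinearMap.coprod (Fintype.linearCombination (ZMod 2) fun i => (bW i : U)) (Fintype.linearCombination (ZMod 2) v)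
  have hxW : ∀ x : Vec n, (∑ i, x i • (bW i : U)) ∈ W := fun x =>
    Submodule.sum_mem _ fun k _ => W.smul_mem _ (bW k).2
  have hV0 : ∀ (y : Vec n) (S : Finset (Fin n)), q (∑ i ∈ S, y i • v i) = 0 := by
    intro y S
    induction S using Finset.induction with
    | empty => simp
    | insert j S hj ih =>
      rw [Finset.sum_insert hj, hBadd, QuadraticMap.map_smul, hv, ih, map_sum, Finset.sum_eq_zero fun i hi => ?_]
      · simp
      · have hne : j ≠ i := fun e => hj (e ▸ hi)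
        simp [hvv j i hne]
  have hΦ : ∀ p, q (Φ p) = qform p := fun p => by
    show q (Φ p) = p.2 ⬝ᵥ p.1
    rw [LinearMap.coprod_apply, Fintype.linearCombination_apply, Fintype.linearCombination_apply, hBadd,
      hsing _ (hxW _), hV0, zero_add, zero_add, map_sum]
    simp [map_sum, LinearMap.sum_apply, hwv, dotProduct]
  have hinj : Function.Injective Φ := by
    rw [← LinearMap.ker_eq_bot, Submodule.eq_bot_iff]
    intro p hp
    rw [LinearMap.mem_ker] at hp
    apply bform_nondeg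
    intro p'
    have h1 := hΦ (p + p')
    rw [map_add, hp, zero_add, hΦ, qform_add, show qform p = 0 by rw [← hΦ, hp, QuadraticMap.map_zero]] at h1
    linear_combination -h1
  let e := LinearMap.linearEquivOfInjective Φ hinj
    (by rw [Module.finrank_prod, Module.finrank_fin_fun, hn, two_mul])
  refine ⟨e.symm, fun u => ?_⟩
  conv_lhs => rw [← e.apply_symm_apply u]
  exact hΦ _

theorem exists_extension {K : Type*} [Group K] (n : ℕ) (hn1 : 1 ≤ n) (hn : Module.finrank (ZMod 2) U = 2 * n)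
    (ρ : Representation (ZMod 2) K U) (hρ : Function.Injective ρ) (q : QuadraticForm (ZMod 2) U)
    (hq : ∀ (k : K) (u : U), q (ρ k u) = q u) (hnd : (QuadraticMap.polarBilin q).Nondegenerate)
    (hplus : ∃ W : Submodule (ZMod 2) U, Module.finrank (ZMod 2) ↥W = n ∧ ∀ w ∈ W, q w = 0) :
    ∃ (R : Type) (_ : Group R) (_ : Finite R) (Q : Subgroup R) (hN : Q.Normal) (e : R ⧸ Q ≃* K) (χ : ↥Q →* Multiplicative U),
      Cfsg.IsExtraspecial 2 ↥Q ∧ Nat.card ↥Q = 2 ^ (2 * n + 1) ∧ Function.Surjective χ ∧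
      χ.ker = Subgroup.center ↥Q ∧
      (∀ (r : R) (a : ↥Q), χ ⟨r * a * r⁻¹, hN.conj_mem (a : R) a.2 r⟩ =
        Multiplicative.ofAdd (ρ (e (r : R ⧸ Q)) (Multiplicative.toAdd (χ a)))) ∧
      ∀ a : ↥Q, a * a = 1 ↔ q (Multiplicative.toAdd (χ a)) = 0 := by
  classical
  haveI : Finite (Module.End (ZMod 3) (Fun3 n)) := Finite.of_injective _ DFunLike.coe_injective
  haveI : Finite (GL3 n) := Finite.of_injective _ Units.val_injective
  obtain ⟨ψ, hψ⟩ := exists_hyperbolic n hn q hnd hplus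
  let σ : K → (Vec n × Vec n) →ₗ[ZMod 2] (Vec n × Vec n) := fun k =>
    ψ.toLinearMap ∘ₗ (ρ k) ∘ₗ ψ.symm.toLinearMap
  have hσ : ∀ k p, σ k p = ψ (ρ k (ψ.symm p)) := fun k p => rfl
  have hσ1 : ∀ p, σ 1 p = p := fun p => by simp [hσ]
  have hσmul : ∀ k l p, σ (k * l) p = σ k (σ l p) := fun k l p => by simp [hσ]
  have hσuniq : ∀ k l, (∀ p, σ k p = σ l p) → k = l := fun k l h => hρ (LinearMap.ext fun u => by
    have := h (ψ u)
    simpa [hσ] using this)
  let R : Subgroup (GL3 n) :=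
    { carrier := {g | ∃ k, Maps (σ k) g}
      one_mem' := ⟨1, fun u => ⟨0, by simp [hσ1]⟩⟩
      mul_mem' := by
        rintro g h ⟨k, hk⟩ ⟨l, hl⟩
        refine ⟨k * l, fun u => ?_⟩
        obtain ⟨c, hc⟩ := hk.mul hl u
        exact ⟨c, by rw [hc, hσmul]; rfl⟩
      inv_mem' := by
        rintro g ⟨k, hk⟩
        refine ⟨k⁻¹, fun u => ?_⟩
        obtain ⟨c, hc⟩ := hk.el' 0 (σ k⁻¹ u)
        rw [← hσmul, mul_inv_cancel, hσ1] at hc
        refine ⟨c, ?_⟩
        have e : el 0 u = el c 0 * el c u := by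
          rw [el_mul]
          simp [CharTwo.add_self_eq_zero]
        rw [inv_inv, e, ← mul_assoc g⁻¹, ← el_central c g⁻¹, mul_assoc (el c 0) g⁻¹, mul_assoc (el c 0), ← hc,
          show g⁻¹ * (g * el 0 (σ k⁻¹ u) * g⁻¹) * g = el 0 (σ k⁻¹ u) by group, el_mul]
        simp }
  have hkuniq : ∀ g k l, Maps (σ k) g → Maps (σ l) g → k = l := fun g k l hk hl => hσuniq k l fun p => by
    obtain ⟨c, hc⟩ := hk p
    obtain ⟨d, hd⟩ := hl p
    exact (el_inj (hc.symm.trans hd)).2
  let kOf : ↥R → K := fun g => g.2.choose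
  have hkOf : ∀ g : ↥R, Maps (σ (kOf g)) (g : GL3 n) := fun g => g.2.choose_spec
  let π : ↥R →* K := MonoidHom.mk' kOf fun a b => hkuniq _ _ _ (hkOf (a * b)) fun u => by
    obtain ⟨c, hc⟩ := (hkOf a).mul (hkOf b) u
    exact ⟨c, by rw [Subgroup.coe_mul, hc, hσmul]; rfl⟩
  have hπsurj : Function.Surjective π := fun k => by
    obtain ⟨g, hg⟩ := exists_maps (σ k) fun p => by rw [← LinearEquiv.apply_symm_apply ψ p, ← hψ, hσ, LinearEquiv.symm_apply_apply, ← hψ, hq]
    exact ⟨⟨g, k, hg⟩, hkuniq _ _ _ (hkOf _) hg⟩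
  have helmaps : ∀ c p, Maps (σ 1) (el c p) := fun c p u =>
    ⟨bform p u, by
      rw [el_swap, mul_assoc, mul_inv_cancel_right, el_mul, hσ1]
      simp⟩
  have helmem : ∀ c p, el c p ∈ R := fun c p => ⟨1, helmaps c p⟩
  have helker : ∀ c p, (⟨el c p, helmem c p⟩ : ↥R) ∈ π.ker := fun c p =>
    hkuniq _ _ _ (hkOf _) (helmaps c p)
  let mk : ZMod 2 → Vec n × Vec n → ↥π.ker := fun c p => ⟨⟨el c p, helmem c p⟩, helker c p⟩
  have hdesc : ∀ a : ↥π.ker, ∃ c p, a = mk c p := by
    intro a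
    have h1 : π (a : ↥R) = 1 := a.2
    obtain ⟨c, p, hcp⟩ := mem_el_of_maps_id ((a : ↥R) : GL3 n) fun u => by
      obtain ⟨c, hc⟩ := hkOf (a : ↥R) u
      exact ⟨c, by rw [hc, show kOf (a : ↥R) = 1 from h1, hσ1]; rfl⟩
    exact ⟨c, p, Subtype.ext (Subtype.ext hcp)⟩
  have hmk : ∀ c c' p p', mk c p * mk c' p' = mk (c + c' + p'.2 ⬝ᵥ p.1) (p + p') := fun c c' p p' =>
    Subtype.ext (Subtype.ext (el_mul c c' p p'))
  have hmkinj : ∀ c c' p p', mk c p = mk c' p' → c = c' ∧ p = p' := fun c c' p p' h =>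
    el_inj (congrArg (fun a : ↥π.ker => ((a : ↥R) : GL3 n)) h)
  have hmk1 : (1 : ↥π.ker) = mk 0 0 := Subtype.ext (Subtype.ext el_zero.symm)
  choose cOf pOf hOf using hdesc
  have hpOf : ∀ c p, pOf (mk c p) = p := fun c p => (hmkinj _ _ _ _ (hOf (mk c p))).2.symm
  let χ : ↥π.ker →* Multiplicative U := MonoidHom.mk' (fun a => Multiplicative.ofAdd (ψ.symm (pOf a))) fun a b => by
    conv_lhs => rw [hOf a, hOf b, hmk, hpOf, map_add, ofAdd_add]
  have hχ : ∀ c p, χ (mk c p) = Multiplicative.ofAdd (ψ.symm p) := fun c p => by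
    show Multiplicative.ofAdd (ψ.symm (pOf (mk c p))) = _
    rw [hpOf]
  have hsqmk : ∀ c p, mk c p * mk c p = mk (qform p) 0 := fun c p => by
    rw [hmk, pair_add_self, CharTwo.add_self_eq_zero, zero_add]
    rfl
  have hcomm : ∀ c c' p p', mk c p * mk c' p' = mk c' p' * mk c p ↔ bform p p' = 0 := fun c c' p p' => by
    rw [← el_comm_iff c c' p p']
    exact ⟨fun h => congrArg (fun a : ↥π.ker => ((a : ↥R) : GL3 n)) h, fun h => Subtype.ext (Subtype.ext h)⟩
  have hcen : ∀ a : ↥π.ker, a ∈ Subgroup.center ↥π.ker ↔ pOf a = 0 := fun a => by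
    constructor
    · intro ha
      refine bform_nondeg _ fun p => ?_
      have := Subgroup.mem_center_iff.mp ha (mk 0 p)
      rw [hOf a] at this
      exact (hcomm _ _ _ _).mp this.symm
    · intro ha
      refine Subgroup.mem_center_iff.mpr fun b => ?_
      rw [hOf a, hOf b, hcomm, ha]
      simp [bform]
  have hext : CfsgLib.ExtraTwo.Ext2 ↥π.ker (mk 1 0) := by
    refine ⟨fun h => one_ne_zero (hmkinj _ _ _ _ (h.trans hmk1)).1, fun a => ⟨fun ha => ?_, ?_⟩, fun a => ?_⟩
    · rw [hOf a, (hcen a).mp ha, hmk1]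
      rcases (show ∀ c : ZMod 2, c = 0 ∨ c = 1 by decide) (cOf a) with e | e <;> rw [e]
      · exact Or.inl rfl
      · exact Or.inr rfl
    · rintro (rfl | rfl)
      · exact one_mem _
      · exact (hcen _).mpr (hpOf 1 0)
    · rw [hOf a, hsqmk, hmk1]
      rcases (show ∀ c : ZMod 2, c = 0 ∨ c = 1 by decide) (qform (pOf a)) with e | e <;> rw [e]
      · exact Or.inl rfl
      · exact Or.inr rfl
  refine ⟨↥R, inferInstance, inferInstance, π.ker, inferInstance, QuotientGroup.quotientKerEquivOfSurjective π hπsurj,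
    χ, ?_, ?_, ?_, ?_, ?_, ?_⟩
  · let i₀ : Fin n := ⟨0, hn1⟩
    refine CfsgLargeExtra.isExtraspecial_of_ext2 hext (a := mk 0 (Pi.single i₀ 1, 0)) (b := mk 0 (0, Pi.single i₀ 1)) ?_
    rw [Ne, hcomm]
    simp [bform]
  · rw [Nat.card_congr (Equiv.ofBijective (fun a => (cOf a, pOf a)) ⟨fun a b h => ?_, fun ⟨c, p⟩ =>
      ⟨mk c p, Prod.ext (hmkinj _ _ _ _ (hOf (mk c p))).1.symm (hpOf c p)⟩⟩)]
    · simp only [Nat.card_prod, Nat.card_fun, Nat.card_zmod, Nat.card_fin]
      rw [← pow_add, ← two_mul, ← pow_succ']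
    · rw [hOf a, hOf b, (Prod.mk.inj h).1, (Prod.mk.inj h).2]
  · intro u
    exact ⟨mk 0 (ψ (Multiplicative.toAdd u)), by rw [hχ, LinearEquiv.symm_apply_apply]; rfl⟩
  · ext a
    rw [MonoidHom.mem_ker, hcen]
    show Multiplicative.ofAdd (ψ.symm (pOf a)) = 1 ↔ _
    rw [ofAdd_eq_one, LinearEquiv.map_eq_zero_iff]
  · intro r a
    obtain ⟨d, hd⟩ := (hkOf r).el' (cOf a) (pOf a)
    have e : (⟨r * a * r⁻¹, (inferInstance : π.ker.Normal).conj_mem (a : ↥R) a.2 r⟩ : ↥π.ker) =
        mk d (σ (kOf r) (pOf a)) := by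
      refine Subtype.ext (Subtype.ext ?_)
      show (r : GL3 n) * ((a : ↥R) : GL3 n) * (r : GL3 n)⁻¹ = el d _
      rw [← hd, show ((a : ↥R) : GL3 n) = el (cOf a) (pOf a) from
        congrArg (fun a : ↥π.ker => ((a : ↥R) : GL3 n)) (hOf a)]
    rw [e, hχ, hσ, LinearEquiv.symm_apply_apply]
    rfl
  · intro a
    show _ ↔ q (ψ.symm (pOf a)) = 0
    rw [hψ, LinearEquiv.apply_symm_apply]
    conv_lhs => rw [hOf a, hsqmk, hmk1]
    exact ⟨fun h => (hmkinj _ _ _ _ h).1, fun h => by rw [h]⟩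

end CfsgLead.WeilThree
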